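import Groth.Agent.HDU.Site
import Groth.Agent.HDU.Top
import Groth.Agent.HDU.Compare
import Groth.Agent.DerPlus.LongExact
import Groth.Agent.DerPlus.Adjoint
import Groth.Prelude.Def_CohCx

/-!
Cohomology sheaves of a direct image as sheafified hypercohomology presheaves.
-/

set_option autoImplicit false
set_option linter.style.haveILetI false
set_option linter.unusedSectionVars false
set_option backward.isDefEq.respectTransparency false
set_option backward.isDefEq.respectTransparency.types false

universe u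

open CategoryTheory Category Limits Opposite TopologicalSpace DerivedCategory

namespace Groth.Agent.RpushHyper

variable {X Y : TopCat.{u}} (f : X ⟶ Y)
  [HasDerivedCategory.{u} (CohTop.Ab X)] [HasDerivedCategory.{u} (CohTop.Ab Y)]
  (I : CochainComplex (CohTop.Ab X) ℤ) [I.IsKInjective] (p : ℤ)

/-- the direct image complex -/
noncomputable abbrev pushCx : CochainComplex (CohTop.Ab Y) ℤ :=
  ((CohTop.push f).mapHomologicalComplex (ComplexShape.up ℤ)).obj I

/-- hypercohomology of a direct image over one open -/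
theorem exists_equiv (U : Opens Y) :
    ∃ E : CohCx.HDU ((Q : _ ⥤ DerivedCategory (CohTop.Ab Y)).obj (pushCx f I)) p U ≃+
      CohCx.HDU ((Q : _ ⥤ DerivedCategory (CohTop.Ab X)).obj I) p ((Opens.map f).obj U),
      ∀ (s : (I.X p).obj.obj (op ((Opens.map f).obj U)))
        (hs : (I.d p (p + 1)).hom.app _ s = 0),
        E (HDU.cls (I := pushCx f I) p U s hs) = HDU.cls p ((Opens.map f).obj U) s hs := by
  haveI := HDU.push_isKInjective f I
  let φ : HDU.closedSec I p ((Opens.map f).obj U) →+
      CohCx.HDU ((Q : _ ⥤ DerivedCategory (CohTop.Ab Y)).obj (pushCx f I)) p U :=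
    HDU.clsHom (I := pushCx f I) p U
  let ψ : HDU.closedSec I p ((Opens.map f).obj U) →+
      CohCx.HDU ((Q : _ ⥤ DerivedCategory (CohTop.Ab X)).obj I) p ((Opens.map f).obj U) :=
    HDU.clsHom p ((Opens.map f).obj U)
  have hk : φ.ker = ψ.ker := by
    ext ⟨s, hs⟩
    simp only [AddMonoidHom.mem_ker, φ, ψ, HDU.clsHom, AddMonoidHom.mk'_apply]
    exact (HDU.cls_eq_zero_iff (I := pushCx f I) p U s hs).trans
      (HDU.cls_eq_zero_iff p ((Opens.map f).obj U) s hs).symm
  have hφ : Function.Surjective φ := HDU.clsHom_surjective (I := pushCx f I) p U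
  have hψ : Function.Surjective ψ := HDU.clsHom_surjective p _
  refine ⟨(QuotientAddGroup.quotientKerEquivOfSurjective φ hφ).symm.trans
    ((QuotientAddGroup.quotientAddEquivOfEq hk).trans
      (QuotientAddGroup.quotientKerEquivOfSurjective ψ hψ)), fun s hs => ?_⟩
  have h1 : (QuotientAddGroup.quotientKerEquivOfSurjective φ hφ).symm
      (HDU.cls (I := pushCx f I) p U s hs) = QuotientAddGroup.mk (⟨s, hs⟩ : HDU.closedSec I p _) :=
    (AddEquiv.symm_apply_eq _).2 rfl
  simp only [AddEquiv.trans_apply, h1]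
  rfl

/-- the hypercohomology presheaf of a direct image -/
theorem nonempty_presheaf_iso :
    Nonempty ((Opens.map f).op ⋙ CohCx.HDUPresheaf ((Q : _ ⥤ DerivedCategory (CohTop.Ab X)).obj I) p ≅
      CohCx.HDUPresheaf ((Q : _ ⥤ DerivedCategory (CohTop.Ab Y)).obj (pushCx f I)) p) := by
  haveI := HDU.push_isKInjective f I
  choose E hE using exists_equiv f I p
  refine ⟨(NatIso.ofComponents (fun U => (E U.unop).toAddCommGrpIso) fun {U V} a => ?_).symm⟩
  ext x
  obtain ⟨s, hs, rfl⟩ := HDU.cls_surjective (I := pushCx f I) p U.unop x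
  change E V.unop (CohCx.HDUres _ p a.unop (HDU.cls (I := pushCx f I) p U.unop s hs)) =
    CohCx.HDUres _ p ((Opens.map f).map a.unop) (E U.unop (HDU.cls (I := pushCx f I) p U.unop s hs))
  have hsV : (I.d p (p + 1)).hom.app _ ((I.X p).obj.map ((Opens.map f).map a.unop).op s) = 0 :=
    (NatTrans.naturality_apply (I.d p (p + 1)).hom ((Opens.map f).map a.unop).op s).trans
      ((congrArg ((I.X (p + 1)).obj.map ((Opens.map f).map a.unop).op).hom hs).trans (map_zero _))
  rw [hE, ← HDU.cls_res (I := I) p ((Opens.map f).map a.unop) s hs hsV,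
    ← HDU.cls_res (I := pushCx f I) p a.unop s hs hsV]
  exact hE V.unop _ hsV

theorem nonempty_iso (K : CochainComplex.Plus (CohTop.Ab X)) :
    Nonempty ((DerivedCategory.Plus.homologyFunctor (CohTop.Ab Y) p).obj
        ((CohTop.push f).rightDerivedFunctorPlus.obj (DerPlus.QP K)) ≅
      (presheafToSheaf (Opens.grothendieckTopology Y) AddCommGrpCat.{u}).obj
        ((Opens.map f).op ⋙ CohCx.HDUPresheaf (DerivedCategory.Q.obj K.obj) p)) := by
  obtain ⟨n, hn⟩ := K.property
  obtain ⟨L, -, i, hi⟩ := CochainComplex.Plus.exists_quasiIso_injective K n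
  let L' := (InjectiveObject.ι (CohTop.Ab X)).mapCochainComplexPlus.obj L
  haveI : L'.obj.IsKInjective := DerPlus.isKInjective_inj L
  haveI := DerPlus.isIso_QP_map i hi
  let qX := DerivedCategory.quotientCompQhIso (CohTop.Ab X)
  let qY := DerivedCategory.quotientCompQhIso (CohTop.Ab Y)
  let e : DerPlus.QP K ≅ DerPlus.QP L' :=
    asIso (DerivedCategory.Plus.Qh.map ((HomotopyCategory.Plus.quotient _).map i))
  let e' : DerivedCategory.Q.obj K.obj ≅ DerivedCategory.Q.obj L'.obj :=
    (qX.app K.obj).symm ≪≫ DerivedCategory.Plus.ι.mapIso e ≪≫ qX.app L'.obj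
  haveI : IsIso ((CohTop.push f).rightDerivedFunctorPlusUnit.app
      ((HomotopyCategory.Plus.quotient _).obj L')) := inferInstance
  let u : DerivedCategory.Plus.ι.obj ((CohTop.push f).rightDerivedFunctorPlus.obj (DerPlus.QP K)) ≅
      DerivedCategory.Q.obj (pushCx f L'.obj) :=
    DerivedCategory.Plus.ι.mapIso ((CohTop.push f).rightDerivedFunctorPlus.mapIso e ≪≫
      (asIso ((CohTop.push f).rightDerivedFunctorPlusUnit.app
        ((HomotopyCategory.Plus.quotient _).obj L'))).symm) ≪≫ qY.app (pushCx f L'.obj)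
  obtain ⟨w⟩ := nonempty_presheaf_iso f L'.obj p
  let r : CohCx.HDUPresheaf (DerivedCategory.Q.obj K.obj) p ≅
      CohCx.HDUPresheaf (DerivedCategory.Q.obj L'.obj) p :=
    Functor.isoWhiskerLeft _ (preadditiveYoneda.mapIso ((shiftFunctor _ p).mapIso e'))
  exact ⟨(DerivedCategory.homologyFunctor (CohTop.Ab Y) p).mapIso u ≪≫
    (HDU.sheafifyIso (DerivedCategory.Q.obj (pushCx f L'.obj)) p).symm ≪≫
    (presheafToSheaf _ _).mapIso (w.symm ≪≫ (Functor.isoWhiskerLeft (Opens.map f).op r).symm)⟩

end Groth.Agent.RpushHyper
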